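import Cfsg.Agent.Depth.N.Defs

/-!
# Depth (S5768): the checker of the numerical part
-/

set_option autoImplicit false

namespace Cfsg.Agent.Depth.N

/-- upper bound for `log 2` -/
def l2 : ℚ := 0.6931471808

/-- binary search for the binary logarithm -/
def lgs (x : ℕ) : ℕ → ℕ → ℕ
  | 0, e => e
  | k + 1, e => lgs x k (if 2 ^ (e + 2 ^ k) ≤ x then e + 2 ^ k else e)

theorem lgs_realised : True := by have := @lgs.eq_def; trivial

/-- `n ≤ 2 ^ clg n` -/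
def clg (n : ℕ) : ℕ := if n ≤ 1 then 0 else if n ≤ 2 ^ (lgs (n - 1) 12 0 + 1) then lgs (n - 1) 12 0 + 1 else n

/-- upper bound for `log x` -/
def lgU (x : ℚ) : ℚ := clg ⌈x ^ 32⌉₊ * l2 / 32

/-- lower bound for `2 ^ (i / 4)` -/
def hlo (i : ℕ) : ℚ := 2 ^ (i / 4) * ([1, 1.1892, 1.4142, 1.6817] : List ℚ).getD (i % 4) 1

/-- bound for `ff q` if `q ^ 4 < 2 ^ i` -/
def Fm (i : ℕ) : ℚ :=
  match (List.range 11).find? (fun j => 2 ^ i ≤ thr.getD j 0 ^ 4) with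
  | some j => fv.getD j 0
  | none => 2

/-- one step of the square root iteration -/
def nw1 (n x : ℕ) : ℕ := (x + n / x) / 2

/-- guess for the square root -/
def isq (n : ℕ) : ℕ := nw1 n (nw1 n (nw1 n (nw1 n (nw1 n (nw1 n (nw1 n (2 ^ (lgs n 8 0 / 2 + 1)))))))) + 1

/-- upper bound for the square root -/
def rt2 (x : ℚ) : ℚ :=
  if x ≤ ((isq ⌈x * 10 ^ 40⌉₊ : ℚ) / 10 ^ 20) ^ 2 then (isq ⌈x * 10 ^ 40⌉₊ : ℚ) / 10 ^ 20 else x + 1

/-- rounding up -/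
def up (x : ℚ) : ℚ := (⌈x * 10 ^ 9⌉ : ℚ) / 10 ^ 9

/-- the data of a range of `log N` -/
structure Rg where
  la : ℚ
  lb : ℚ
  inf : Bool
  lo : ℚ
  p2 : ℚ × ℚ
  pp : List (ℚ × ℚ)
  TA : ℚ
  TB : ℚ
  ρ : ℚ
  C : ℚ
  P0 : ℚ
  η : ℚ
  κ : ℚ
  γ : ℚ
  iP : ℕ
  En : ℚ

namespace Rg

variable (r : Rg)

/-- lower bound for `log B` -/
def xa : ℚ := r.la - 22.5
/-- upper bound for `log B` -/
def xb : ℚ := r.lb - 22.4999
/-- lower bound for `log R` -/
def La : ℚ := (r.la - 5.2576) / 2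
/-- upper bound for `log R` -/
def Lb : ℚ := (r.lb - 5.2574) / 2

end Rg

/-- the constant in the lower bound for `G` -/
def c0 (y : ℚ) : ℚ := if 6.908 ≤ y then 2.2 else 1.8

/-- bound for `cc` at the sieve level `exp (s log B - t)` -/
def ccG (r : Rg) (T s t : ℚ) : ℚ :=
  up ((1 + 1.2 / T + 0.000001) / r.lo *
    (if r.inf then (r.xa + l2) / (s * r.xa - t + c0 (s * r.xa - t))
     else min ((r.xa + l2) / (s * r.xa - t + c0 (s * r.xa - t))) (4 / 15 * (r.xb + l2))))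

/-- bound for `cc` at the sieve level `√(B / exp lc)` -/
def ccH (r : Rg) (T lc : ℚ) : ℚ := ccG r T (1 / 2) (lc / 2)

/-- sieve constant times `ff` for noise and direct bound -/
def c8 (r : Rg) (T l8 : ℚ) (i : ℕ) : ℚ := up (ccH r T ((i + 2) * l2 / 4 + l8) * Fm (i + 2))

/-- sieve constant for the foreign terms -/
def cF (r : Rg) (i : ℕ) : ℚ := ccH r 10 ((i + 2) * l2 / 4 + 6.9135)

/-- noise -/
def nz (r : Rg) (T l8 : ℚ) (i : ℕ) : ℚ :=
  min 0.03491 (rt2 (rt2 (rt2 (c8 r T l8 i * (1.604e-12 / hlo i + 6.97e-20)))))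

/-- excess in the first option, in units of `10⁻⁹` -/
def nA (r : Rg) (T l8 G F1 : ℚ) (i : ℕ) : ℕ :=
  ⌈(1e-8 + 6.5e-7 * G ^ 2 + 0.001001 + F1 * 202.6 / 2826240 * cF r i * Fm (i + 2) + nz r T l8 i - r.η) * 10 ^ 9⌉₊

/-- excess in the second option, in units of `10⁻⁹` -/
def nB (r : Rg) (T l8 : ℚ) (i : ℕ) : ℕ :=
  ⌈(rt2 (c8 r T l8 i * (51.8 / hlo i + 2.14e-6)) + 0.000001 - r.η) * 10 ^ 9⌉₊

/-- the table of `Wt` -/
def WL : List ℕ :=
  [10000, 0, 0, 0, 0, 0, 0, 0, 0, 0, 0, 1667, 0, 1000, 834, 0, 1181, 0, 455, 691, 278, 489, 410, 340, 434, 531, 536, 366, 534, 432, 432, 500, 459, 443, 458, 515, 430, 476, 452, 461]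

/-- weighted sum -/
def dot : List ℕ → List ℕ → ℕ
  | [], _ => 0
  | x :: xs, [] => 495 * x + dot xs []
  | x :: xs, w :: ws => w * x + dot xs ws

theorem dot_realised : True := by have := @dot.eq_def; trivial

/-- sum over the bins of the multipliers -/
def SB (a : List ℕ) (i : ℕ) : ℚ := (dot (a.drop i) WL : ℚ) / 10 ^ 13

/-- the inequality of a cell -/
def okc (r : Rg) (Mf rest F u : ℚ) : Bool :=
  (decide (0 ≤ r.La - u) && decide (Mf + F * rest ≤ r.κ * ((r.La - u + c0 (r.La - u)) / (r.La + 2.2)))) ||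
    (!r.inf && decide (Mf + rest ≤ r.κ * (15 / (4 * (r.Lb + 2.2)))))

/-- the terms with large drift -/
def inv (cw F m : ℚ) : ℚ := F * (cw * (1.07 * 226.6 * m))

/-- cells without matching terms -/
def cellN (r : Rg) (big : Bool) (cw : ℚ) (a b : List ℕ) (i : ℕ) : Bool :=
  okc r 0 (inv cw (Fm (i + 1)) (if big then min (6.45e-7 * 30) (23.8 / (33 * hlo i)) else 6.45e-7 * 30) + SB a i)
      (Fm (i + 1)) (7.1212 + (i + 1) * l2 / 4) ||
    okc r 0 (SB b i) (Fm (i + 1)) (7.1212 + (i + 1) * l2 / 4)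

/-- cells with matching terms, `δ ≥ 33` -/
def cellM1 (r : Rg) (CP cw : ℚ) (a b : List ℕ) (i : ℕ) : Bool :=
  okc r (CP * (1 / (20.79 * hlo (i / 2)) + 0.000001))
      (inv cw (Fm (i + 1)) (min 6.45e-7 (23.8 / (33 * hlo i))) + SB a i + r.γ * (1 / (20.79 * hlo i) + 0.000001))
      (Fm (i + 1)) (3.72 + (i + 1) * l2 / 4) ||
    okc r 0 (SB b i + (1 + r.γ) * (1 / (20.79 * hlo i) + 0.000001)) (Fm (i + 1)) (3.72 + (i + 1) * l2 / 4)

/-- cells with matching terms, `δ ≤ 33`, `k ≥ 300` -/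
def cellM2 (r : Rg) (CP cw : ℚ) (a b : List ℕ) (i : ℕ) (d : ℚ × ℚ) : Bool :=
  okc r (CP * omg d.1 / hlo (i / 2)) (inv cw (Fm (i + 1)) 6.45e-7 + SB a i) (Fm (i + 1))
      (lgU (2 * max 1 (d.2 / 1.5999)) + (i + 1) * l2 / 4) ||
    okc r 0 (SB b i) (Fm (i + 1)) (lgU (2 * max 1 (d.2 / 1.5999)) + (i + 1) * l2 / 4)

/-- bound for `zet` -/
def zetQ (d0 d1 : ℚ) : ℚ :=
  0.045 * rt2 ((0.9685 * d1 * omg d0) ^ 2 +
    (1.0472 * (min ((0.7229 * d1) ^ 2 / 3) 1.14 + min ((0.1808 * d1) ^ 2 / 3) 1.14)) ^ 2) + 0.00001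

/-- the primes with a table of primes in progressions -/
def SP : List ℕ := [7, 11, 13, 17, 19]

/-- the bounds for the prime `p` -/
def ppv (r : Rg) (p : ℕ) : ℚ × ℚ := r.pp.getD (SP.idxOf p) (0, 0)

/-- the better bound for the matching terms at `q̌ = n` -/
def bet (r : Rg) (g : ℕ) (d : ℚ × ℚ) (n : ℕ) : ℚ :=
  if n = 1 then
    (if g = 1 then 0 else if d.2 ≤ 8 then (r.p2.2 - r.p2.1) / (r.p2.2 + r.p2.1) * omg d.1 + zetQ d.1 d.2 else omg d.1)
  else if d.2 ≤ 8 then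
    min (omg d.1 * (cQ n + (1 - cQ n) * ((ppv r n).2 / ((n - 1) * r.lo))))
      (omg d.1 * ((((ppv r n).2 + (ppv r n).1) / 2 * cQ n +
          ((ppv r n).2 - (ppv r n).1) / 2 * (1 + (n - 2) * cQ n)) / ((n - 1) * r.lo)) +
        zetQ d.1 d.2 * (cQ n + (1 - cQ n) * ((ppv r n).2 / ((n - 1) * r.lo))))
  else omg d.1 * (cQ n + (1 - cQ n) * ((ppv r n).2 / ((n - 1) * r.lo)))

/-- the multipliers with a better bound -/
def spd (k : ℕ) : List ℕ := if k = 1 then 1 :: SP else if k ∈ SP then [1] else []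

/-- `trm` -/
def trQ (r : Rg) (n : ℕ) : ℚ := ckQ n + r.C * (xkQ r.ρ n - ckQ n)

/-- gain from the better bounds -/
def cor (r : Rg) (k g : ℕ) (d : ℚ × ℚ) : ℚ :=
  ((spd k).map fun e => max 0 (omg d.1 * trQ r (k * e) - max 0 (bet r g d (k * e))) / max 1 ((e : ℚ) - 1)).sum

/-- Euler product for the multipliers of `k` -/
def eul (r : Rg) (k : ℕ) : ℚ := up (r.C * xkQ r.ρ k * r.P0 / z0Q r.ρ k - (r.C - 1) * ckQ k * 1.1224 / z1Q k)

/-- explicit cells -/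
def cellE (r : Rg) (cw : ℚ) (a : List ℕ) (k g : ℕ) (d : ℚ × ℚ) : Bool :=
  okc r (fQ k * (omg d.1 * eul r k - cor r k g d))
    (inv cw (fQ k) 6.45e-7 + SB a (k ^ 4).log2 + if k = 1 ∧ g = 1 then r.γ * omg d.1 else 0) (fQ k)
    (lgU (g * k * max 1 (d.2 / 1.5999)))

/-- consecutive pairs -/
def prs (l : List ℚ) : List (ℚ × ℚ) := l.zip l.tail

/-- fine bins for `δ` -/
def DS : List ℚ :=
  [0, 0.3, 0.5, 0.7, 0.85, 1, 1.15, 1.3, 1.45, 1.6, 1.8, 2, 2.25, 2.5, 2.75, 3, 3.5, 4, 5, 6, 8, 12, 33]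

/-- coarse bins for `δ` -/
def DE : List ℚ := [0, 1.6, 3, 8, 33]

/-- the bins used for `k` -/
def dbin (k : ℕ) : List (ℚ × ℚ) := if k < 24 then prs DS else prs DE

/-- elementary conditions on the parameters -/
def chk0 (r : Rg) : Bool :=
  decide (55.26 ≤ r.la) && decide (0.94 ≤ r.lo) && decide (1 ≤ r.TA) && decide (0 < r.TB) && decide (1 ≤ r.ρ) &&
    decide (r.ρ ^ 88 ≤ 2) && decide (1 ≤ r.C) && decide (0 ≤ r.P0) && decide (0.0033 ≤ r.η) && decide (r.η ≤ 1) &&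
    decide (0.3 ≤ r.κ) && decide (0 ≤ r.γ) && decide (r.γ ≤ 1) && decide (101 ≤ r.iP) && decide (r.iP ≤ 190) &&
    decide ((34611200 * r.TA) ^ 4 ≤ 2 ^ r.iP) && decide ((r.iP + 1) * l2 / 4 + 8.91 ≤ r.xa) &&
    decide (0 < r.p2.1) && decide (r.p2.1 ≤ r.p2.2) &&
    SP.all (fun p => decide (0 ≤ (ppv r p).1) && decide ((ppv r p).1 ≤ (ppv r p).2)) &&
    ((!r.inf && decide (0.2736 * r.lb - 0.24 ≤ r.En)) || decide (61 ≤ r.En) ||
      (!r.inf && decide (r.lb ≤ 10 ^ 6) && decide (56 ≤ r.En))) &&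
    decide (2.052 * r.κ + 0.0001 + r.η * r.En < 0.84 * (1 + r.γ))

/-- offset of the sieve level for the largest denominators -/
def tTop (r : Rg) : ℚ := (8.6213 + lgU ((r.TA + 0.105) / 0.0015)) / 2

/-- logarithm of the sieve constant for the middle range -/
def lMid (r : Rg) : ℚ := lgU (2.0725 * r.TA * (34611200 * 7436429) / 0.0015)

/-- `c * 2.14e-6 ≤ (η - 1e-8) ^ 2` -/
def plat (r : Rg) (c : ℚ) : Bool := decide (c * 2.14e-6 ≤ (r.η - 1e-8) ^ 2)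

/-- the plateau -/
def chkP (r : Rg) : Bool :=
  decide (lgU (1237.5 * r.TA * 34611200) ≤ r.La) && decide (0 ≤ 1 / 4 * r.xa - tTop r) &&
    ((!r.inf && plat r ((1 + 1.2 / r.TA + 0.000001) / r.lo * (4 / 15 * (r.xb + l2)))) ||
      (plat r (ccG r r.TA (1 / 4) (tTop r) * 1.155) &&
        (plat r (ccG r r.TA (1 / 4) (tTop r) * 1.8379) ||
          (decide (4.4 ≤ lMid r) && decide (lMid r ≤ r.xa) && plat r (ccH r r.TA (lMid r) * 1.8379)))))

/-- the constants of the bound for `mass` -/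
def chkC (r : Rg) : Bool :=
  decide (4.4 ≤ lgU (60.6 * r.TB)) && decide (lgU (60.6 * r.TB) + (2 * r.iP + 2) * l2 / 8 + 6 ≤ r.xa) &&
    (List.range (2 * r.iP + 2)).all fun i =>
      decide (i < 22) || decide (ccH r r.TB (lgU (60.6 * r.TB) + (i + 1) * l2 / 8) ≤ r.C * r.ρ ^ i)

/-- table of `nA` -/
def tA (r : Rg) (T l8 G F1 : ℚ) (n : ℕ) : List ℕ := (List.range n).map (nA r T l8 G F1)

/-- table of `nB` -/
def tB (r : Rg) (T l8 : ℚ) (n : ℕ) : List ℕ := (List.range n).map (nB r T l8)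

/-- constant of the general bound for the matching terms -/
def CPm (r : Rg) : ℚ := up (r.C * r.P0 * rt2 (mu2 r.ρ))

/-- the worst foreign constant is the last one -/
def chkW (r : Rg) (n : ℕ) : Bool := (List.range n).all fun i => decide (cF r i ≤ cF r (n - 1))

/-- the cells with `δ ≥ 33` -/
def chk1 (r : Rg) : Bool :=
  chkW r r.iP &&
  (List.range r.iP).all (cellN r true (cF r (r.iP - 1)) (tA r 1 7.2312 30 25.26 r.iP) (tB r 1 7.2312 r.iP)) &&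
  (List.range r.iP).all (cellM1 r (CPm r) (cF r (r.iP - 1)) (tA r 1 7.2312 1 2.244 r.iP) (tB r 1 7.2312 r.iP))

/-- the general cells with `δ ≤ 33` -/
def chk2 (r : Rg) : Bool :=
  chkW r 101 &&
  (List.range 101).all (cellN r false (cF r 100) (tA r 10 8.9076 30 25.26 101) (tB r 10 8.9076 101)) &&
  (List.range 101).all fun i => decide (i < 32) ||
    (prs DE).all (cellM2 r (CPm r) (cF r 100) (tA r 10 8.9076 1 2.244 101) (tB r 10 8.9076 101) i)

/-- the explicit cells -/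
def chk3 (r : Rg) : Bool :=
  (prs DS).all (cellE r (cF r 100) (tA r 10 8.9076 1 2.244 101) 1 1) &&
  (List.range 300).all fun k => decide (k.gcd 30 ≠ 1) ||
    (dbin k).all (cellE r (cF r 100) (tA r 10 8.9076 1 2.244 101) k 2)

end Cfsg.Agent.Depth.N
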