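import Cfsg.Agent.Depth.DDefs

/-!
# Depth (S5768): arithmetic sums used in the numerical part (interface)
-/

set_option autoImplicit false

namespace Cfsg.Agent.Depth.N

open Finset
open scoped Classical

/-- the growth factor `u p`, about `ρ ^ (8 log₂ p)` -/
def uQ (ρ : ℚ) (p : ℕ) : ℚ := ρ ^ ((p ^ 8).log2 + 1)

/-- `uQ` as a real function -/
noncomputable def uR (ρ : ℚ) (p : ℕ) : ℝ := (uQ ρ p : ℚ)

/-- local factor of `xM` at `p` -/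
def xQ (ρ : ℚ) (p : ℕ) : ℚ := cQ p + (1 - cQ p) * (uQ ρ p / (p - 1))

/-- local factor of `xM` at `p²` -/
def x2Q (ρ : ℚ) (p : ℕ) : ℚ := cQ p * (uQ ρ p / (p - 1)) + (1 - cQ p) * (uQ ρ p ^ 2 / (p * (p - 1)))

/-- bound for the Euler product -/
def P0ok (ρ P0 : ℚ) : Prop :=
  ∀ S : Finset ℕ, (∀ p ∈ S, p.Prime ∧ 7 ≤ p) → ∏ p ∈ S, (1 + (xQ ρ p : ℝ) / (p - 1)) ≤ P0

/-- the primes `7 ≤ p < 300` -/
def PL : List ℕ :=
  [7, 11, 13, 17, 19, 23, 29, 31, 37, 41, 43, 47, 53, 59, 61, 67, 71, 73, 79, 83, 89, 97, 101, 103, 107, 109, 113, 127,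
   131, 137, 139, 149, 151, 157, 163, 167, 173, 179, 181, 191, 193, 197, 199, 211, 223, 227, 229, 233, 239, 241, 251,
   257, 263, 269, 271, 277, 281, 283, 293]

/-- the prime factors of `k < 300` coprime to `30` -/
def fk (k : ℕ) : List ℕ := PL.filter fun p => k % p == 0

/-- `ff k` -/
def fQ (k : ℕ) : ℚ := ((fk k).map fun p => (p : ℚ) / (p - 1)).prod

/-- `cM k` -/
def ckQ (k : ℕ) : ℚ := ((fk k).map fun p => if k % (p * p) = 0 then 0 else cQ p).prod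

/-- `xM k` -/
def xkQ (ρ : ℚ) (k : ℕ) : ℚ := ((fk k).map fun p => if k % (p * p) = 0 then x2Q ρ p else xQ ρ p).prod

/-- Euler factors of `xM` at the primes of `k` -/
def z0Q (ρ : ℚ) (k : ℕ) : ℚ := ((fk k).map fun p => 1 + xQ ρ p / (p - 1)).prod

/-- Euler factors of `cM` at the primes of `k` -/
def z1Q (k : ℕ) : ℚ := ((fk k).map fun p => 1 + cQ p / (p - 1)).prod

/-- bound for `(ff k * xM k)² k` -/
def mu2 (ρ : ℚ) : ℚ := ([7, 11, 13, 17, 19, 23].map fun p : ℕ => max 1 (((p : ℚ) / (p - 1) * xQ ρ p) ^ 2 * p)).prod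

/-- the general bound for the matching terms at `q̌ = n`, without the factor `omg` -/
noncomputable def trm (ρ : ℚ) (C : ℝ) (n : ℕ) : ℝ := cM n + C * (xM (uR ρ) n - cM n)

/-- multiplicative sums -/
def BoxMult : Prop :=
  ∀ ρ : ℚ, 1 ≤ ρ → ρ ^ 88 ≤ 2 →
    (∀ e : ℕ, 0 < e → (ρ : ℝ) ^ (e ^ 8).log2 ≤ ∏ p ∈ e.primeFactors, uR ρ p ^ e.factorization p) ∧
    (∀ k : ℕ, 0 < k → k.Coprime 30 →
      0 ≤ cM k ∧ cM k ≤ xM (uR ρ) k ∧ (ff k * xM (uR ρ) k) ^ 2 * k ≤ mu2 ρ ∧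
      (k < 300 → ff k = fQ k ∧ cM k = ckQ k ∧ xM (uR ρ) k = xkQ ρ k) ∧
      ∀ (P0 : ℚ) (C : ℝ) (D : Finset ℕ), P0ok ρ P0 → 1 ≤ C → (∀ d ∈ D, Squarefree d ∧ d.Coprime (60 * k)) →
        ∑ d ∈ D, trm ρ C (k * d) / d.totient ≤ C * xM (uR ρ) k * P0 ∧
        (k < 300 → ∑ d ∈ D, trm ρ C (k * d) / d.totient ≤
          C * xkQ ρ k * P0 / z0Q ρ k - (C - 1) * ckQ k * 1.1224 / z1Q k))

/-- values of the Euler product -/
def BoxP0 : Prop :=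
  P0ok 1.0055 1.1907 ∧ P0ok 1.005 1.1896 ∧ P0ok 1.0045 1.1886 ∧ P0ok 1.0035 1.1865 ∧ P0ok 1.0025 1.1846 ∧
    P0ok 1.0015 1.1827 ∧ P0ok 1.001 1.1817

/-- the terms of `BoxFor` with a large drift -/
noncomputable def invT (N q' : ℕ) (β : ℝ) : ℝ :=
  ∑ ps ∈ QF.filter (fun ps => ¬ Val N q' ps.prod β), cL ps * (23.8 * ps.prod.gcd q' / (dl N β * q2 q'))

/-- their sum over the multipliers -/
def BoxInv : Prop :=
  ∀ (N q : ℕ) (β : ℝ) (D : Finset ℕ), 10 ^ 23 ≤ N → 0 < q → (∀ d ∈ D, Squarefree d ∧ d.Coprime (60 * q)) →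
    (∀ d, 0 ≤ invT N (q * d) β) ∧
    ∑ d ∈ D, ff (q2 (q * d)) * invT N (q * d) β / d.totient ≤ ff (q2 q) * (1.07 * 226.6 * (6.45e-7 * ge q)) ∧
    ∑ d ∈ D, ff (q2 (q * d)) * invT N (q * d) β / d.totient ≤ ff (q2 q) * (1.07 * 226.6 * (23.8 / (dl N β * q2 q)))

/-- sums over the bins `2^j ≤ d⁴ < 2^(j+1)` -/
def BoxBin : Prop :=
  ∀ (D : Finset ℕ) (a : ℕ → ℝ) (J : ℕ), (∀ d ∈ D, Squarefree d ∧ d.Coprime 60) → (∀ j, 0 ≤ a j) →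
    (∀ j, J ≤ j → a j = 0) →
    ∑ d ∈ D, a (d ^ 4).log2 / d.totient ≤ ∑ j ∈ range J, (Wt j : ℝ) / 10000 * a j

/-- lower bound for the mass of the multipliers -/
def BoxRhs : Prop :=
  ∀ (N M q : ℕ) (t : ℤ) (m : ℝ), 0 < M → Arc M (RR N) q t → 1 ≤ m → dl N (t / M) < 1.6 * m →
    1 ≤ ∑ d ∈ Dset M (RR N) q t, (1 : ℝ) / d.totient ∧
    Gs 60 (RR N / (q * m)) / ff q ≤ ∑ d ∈ Dset M (RR N) q t, (1 : ℝ) / d.totient

/-- thresholds for `ff` -/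
def thr : List ℕ :=
  [7, 77, 1001, 17017, 323323, 7436429, 215656441, 6685349671, 247357937827, 10141675450907, 436092044389001]

/-- values for `ff` -/
def fv : List ℚ := [1, 7 / 6, 1.28334, 1.39028, 1.47718, 1.55924, 1.63011, 1.68833, 1.74461, 1.79307, 1.8379]

/-- facts on `ff`, `q2`, `qc`, `ge` -/
def BoxFF : Prop :=
  (∀ q, 1 ≤ ff q) ∧ (∀ q j, j < 11 → q < thr.getD j 0 → ff q ≤ (fv.getD j 0 : ℚ)) ∧
  (∀ q, 0 < q → 0 < q2 q ∧ ff (q2 q) = ff q ∧ q = q.gcd 60 * q2 q ∧ 1 ≤ ge q ∧ ge q ≤ 30 ∧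
    (q.gcd 60 ≤ 2 → ge q = 1 ∧ qc q = q2 q ∧ (q2 q).Coprime 30) ∧ (2 < q.gcd 60 → 2 ≤ ge q ∧ ¬ (qc q).Coprime 30)) ∧
  ∀ q d, 0 < q → d.Coprime 60 → (q * d).gcd 60 = q.gcd 60 ∧ q2 (q * d) = q2 q * d ∧ ge (q * d) = ge q

end Cfsg.Agent.Depth.N
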