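import Cfsg.Agent.Depth.N.Num
import Cfsg.Agent.Depth.N.Run0
import Cfsg.Agent.Depth.N.Run1
import Cfsg.Agent.Depth.N.Run2
import Cfsg.Agent.Depth.N.P0
import Cfsg.Agent.Depth.D.For

/-!
# Depth (S5768): the numerical part
-/

set_option autoImplicit false

namespace Cfsg.Agent.Depth.N

theorem pir_of {r : Rg} {x u a0 a1 b1 a2 b2 a3 b3 a4 b4 a5 b5 a6 b6 : ℝ}
    (h : PI 60 (Real.exp x) a0 u ∧ PI 120 (Real.exp x) a1 b1 ∧ PI 840 (Real.exp x) a2 b2 ∧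
      PI 1320 (Real.exp x) a3 b3 ∧ PI 1560 (Real.exp x) a4 b4 ∧ PI 2040 (Real.exp x) a5 b5 ∧
      PI 2280 (Real.exp x) a6 b6)
    (e : (r.lo : ℝ) = a0 ∧ ((r.p2.1 : ℝ) = a1 ∧ (r.p2.2 : ℝ) = b1) ∧ (((ppv r 7).1 : ℝ) = a2 ∧ ((ppv r 7).2 : ℝ) = b2) ∧
      (((ppv r 11).1 : ℝ) = a3 ∧ ((ppv r 11).2 : ℝ) = b3) ∧ (((ppv r 13).1 : ℝ) = a4 ∧ ((ppv r 13).2 : ℝ) = b4) ∧
      (((ppv r 17).1 : ℝ) = a5 ∧ ((ppv r 17).2 : ℝ) = b5) ∧ (((ppv r 19).1 : ℝ) = a6 ∧ ((ppv r 19).2 : ℝ) = b6)) :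
    PIr r x := by
  obtain ⟨rfl, ⟨rfl, rfl⟩, ⟨rfl, rfl⟩, ⟨rfl, rfl⟩, ⟨rfl, rfl⟩, ⟨rfl, rfl⟩, rfl, rfl⟩ := e
  refine ⟨⟨u, h.1⟩, h.2.1, fun p hp => ?_⟩
  simp only [SP, List.mem_cons, List.not_mem_nil, or_false] at hp
  rcases hp with rfl | rfl | rfl | rfl | rfl
  exacts [h.2.2.1, h.2.2.2.1, h.2.2.2.2.1, h.2.2.2.2.2.1, h.2.2.2.2.2.2]

theorem ppv_eq (r : Rg) : ppv r 7 = r.pp.getD 0 (0, 0) ∧ ppv r 11 = r.pp.getD 1 (0, 0) ∧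
    ppv r 13 = r.pp.getD 2 (0, 0) ∧ ppv r 17 = r.pp.getD 3 (0, 0) ∧ ppv r 19 = r.pp.getD 4 (0, 0) :=
  ⟨rfl, rfl, rfl, rfl, rfl⟩

theorem num0 (h : PITab) (m1 : BoxM1) (m3 : BoxM3) (m4 : BoxM4) (m5 : BoxM5) {N c1 : ℕ} {lam : ℕ → ℕ → ℝ}
    (hN : 10 ^ 24 ≤ N) (hc : c1 = 59 ∨ c1 = 47) (hL : LAll c1 lam) (ha : (rg0.la : ℝ) ≤ Real.log N)
    (hb : rg0.inf = false → Real.log N ≤ rg0.lb) : NumAt N c1 lam :=
  num_range ⟨chk0_0, chkP_0, chkC_0, chk1_0, chk2_0, chk3_0⟩ D.boxFor m1 m3 m4 m5 boxP0.2.1 (x := 32.7)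
    (by simp only [Rg.xa, rg0]; norm_num)
    (pir_of h.1 (by
      simp only [ppv_eq, rg0, List.getD_cons_zero, List.getD_cons_succ]; norm_num)) hN hc hL ha hb

theorem num1 (h : PITab) (m1 : BoxM1) (m3 : BoxM3) (m4 : BoxM4) (m5 : BoxM5) {N c1 : ℕ} {lam : ℕ → ℕ → ℝ}
    (hN : 10 ^ 24 ≤ N) (hc : c1 = 59 ∨ c1 = 47) (hL : LAll c1 lam) (ha : (rg1.la : ℝ) ≤ Real.log N)
    (hb : rg1.inf = false → Real.log N ≤ rg1.lb) : NumAt N c1 lam :=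
  num_range ⟨chk0_1, chkP_1, chkC_1, chk1_1, chk2_1, chk3_1⟩ D.boxFor m1 m3 m4 m5 boxP0.2.1 (x := 32.7)
    (by simp only [Rg.xa, rg1]; norm_num)
    (pir_of h.1 (by
      simp only [ppv_eq, rg1, List.getD_cons_zero, List.getD_cons_succ]; norm_num)) hN hc hL ha hb

theorem num2 (h : PITab) (m1 : BoxM1) (m3 : BoxM3) (m4 : BoxM4) (m5 : BoxM5) {N c1 : ℕ} {lam : ℕ → ℕ → ℝ}
    (hN : 10 ^ 24 ≤ N) (hc : c1 = 59 ∨ c1 = 47) (hL : LAll c1 lam) (ha : (rg2.la : ℝ) ≤ Real.log N)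
    (hb : rg2.inf = false → Real.log N ≤ rg2.lb) : NumAt N c1 lam :=
  num_range ⟨chk0_2, chkP_2, chkC_2, chk1_2, chk2_2, chk3_2⟩ D.boxFor m1 m3 m4 m5 boxP0.2.2.1 (x := 32.7)
    (by simp only [Rg.xa, rg2]; norm_num)
    (pir_of h.1 (by
      simp only [ppv_eq, rg2, List.getD_cons_zero, List.getD_cons_succ]; norm_num)) hN hc hL ha hb

theorem num3 (h : PITab) (m1 : BoxM1) (m3 : BoxM3) (m4 : BoxM4) (m5 : BoxM5) {N c1 : ℕ} {lam : ℕ → ℕ → ℝ}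
    (hN : 10 ^ 24 ≤ N) (hc : c1 = 59 ∨ c1 = 47) (hL : LAll c1 lam) (ha : (rg3.la : ℝ) ≤ Real.log N)
    (hb : rg3.inf = false → Real.log N ≤ rg3.lb) : NumAt N c1 lam :=
  num_range ⟨chk0_3, chkP_3, chkC_3, chk1_3, chk2_3, chk3_3⟩ D.boxFor m1 m3 m4 m5 boxP0.2.2.2.1 (x := 42.5)
    (by simp only [Rg.xa, rg3]; norm_num)
    (pir_of h.2.1 (by
      simp only [ppv_eq, rg3, List.getD_cons_zero, List.getD_cons_succ]; norm_num)) hN hc hL ha hb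

theorem num4 (h : PITab) (m1 : BoxM1) (m3 : BoxM3) (m4 : BoxM4) (m5 : BoxM5) {N c1 : ℕ} {lam : ℕ → ℕ → ℝ}
    (hN : 10 ^ 24 ≤ N) (hc : c1 = 59 ∨ c1 = 47) (hL : LAll c1 lam) (ha : (rg4.la : ℝ) ≤ Real.log N)
    (hb : rg4.inf = false → Real.log N ≤ rg4.lb) : NumAt N c1 lam :=
  num_range ⟨chk0_4, chkP_4, chkC_4, chk1_4, chk2_4, chk3_4⟩ D.boxFor m1 m3 m4 m5 boxP0.2.2.2.2.1 (x := 57.5)
    (by simp only [Rg.xa, rg4]; norm_num)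
    (pir_of h.2.2 (by
      simp only [ppv_eq, rg4, List.getD_cons_zero, List.getD_cons_succ]; norm_num)) hN hc hL ha hb

theorem num5 (h : PITab) (m1 : BoxM1) (m3 : BoxM3) (m4 : BoxM4) (m5 : BoxM5) {N c1 : ℕ} {lam : ℕ → ℕ → ℝ}
    (hN : 10 ^ 24 ≤ N) (hc : c1 = 59 ∨ c1 = 47) (hL : LAll c1 lam) (ha : (rg5.la : ℝ) ≤ Real.log N)
    (hb : rg5.inf = false → Real.log N ≤ rg5.lb) : NumAt N c1 lam :=
  num_range ⟨chk0_5, chkP_5, chkC_5, chk1_5, chk2_5, chk3_5⟩ D.boxFor m1 m3 m4 m5 boxP0.2.2.2.2.2.1 (x := 57.5)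
    (by simp only [Rg.xa, rg5]; norm_num)
    (pir_of h.2.2 (by
      simp only [ppv_eq, rg5, List.getD_cons_zero, List.getD_cons_succ]; norm_num)) hN hc hL ha hb

theorem num6 (h : PITab) (m1 : BoxM1) (m3 : BoxM3) (m4 : BoxM4) (m5 : BoxM5) {N c1 : ℕ} {lam : ℕ → ℕ → ℝ}
    (hN : 10 ^ 24 ≤ N) (hc : c1 = 59 ∨ c1 = 47) (hL : LAll c1 lam) (ha : (rg6.la : ℝ) ≤ Real.log N)
    (hb : rg6.inf = false → Real.log N ≤ rg6.lb) : NumAt N c1 lam :=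
  num_range ⟨chk0_6, chkP_6, chkC_6, chk1_6, chk2_6, chk3_6⟩ D.boxFor m1 m3 m4 m5 boxP0.2.2.2.2.2.2 (x := 57.5)
    (by simp only [Rg.xa, rg6]; norm_num)
    (pir_of h.2.2 (by
      simp only [ppv_eq, rg6, List.getD_cons_zero, List.getD_cons_succ]; norm_num)) hN hc hL ha hb

theorem num7 (h : PITab) (m1 : BoxM1) (m3 : BoxM3) (m4 : BoxM4) (m5 : BoxM5) {N c1 : ℕ} {lam : ℕ → ℕ → ℝ}
    (hN : 10 ^ 24 ≤ N) (hc : c1 = 59 ∨ c1 = 47) (hL : LAll c1 lam) (ha : (rg7.la : ℝ) ≤ Real.log N)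
    (hb : rg7.inf = false → Real.log N ≤ rg7.lb) : NumAt N c1 lam :=
  num_range ⟨chk0_7, chkP_7, chkC_7, chk1_7, chk2_7, chk3_7⟩ D.boxFor m1 m3 m4 m5 boxP0.2.2.2.2.2.2 (x := 57.5)
    (by simp only [Rg.xa, rg7]; norm_num)
    (pir_of h.2.2 (by
      simp only [ppv_eq, rg7, List.getD_cons_zero, List.getD_cons_succ]; norm_num)) hN hc hL ha hb

theorem num8 (h : PITab) (m1 : BoxM1) (m3 : BoxM3) (m4 : BoxM4) (m5 : BoxM5) {N c1 : ℕ} {lam : ℕ → ℕ → ℝ}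
    (hN : 10 ^ 24 ≤ N) (hc : c1 = 59 ∨ c1 = 47) (hL : LAll c1 lam) (ha : (rg8.la : ℝ) ≤ Real.log N)
    (hb : rg8.inf = false → Real.log N ≤ rg8.lb) : NumAt N c1 lam :=
  num_range ⟨chk0_8, chkP_8, chkC_8, chk1_8, chk2_8, chk3_8⟩ D.boxFor m1 m3 m4 m5 boxP0.2.2.2.2.2.2 (x := 57.5)
    (by simp only [Rg.xa, rg8]; norm_num)
    (pir_of h.2.2 (by
      simp only [ppv_eq, rg8, List.getD_cons_zero, List.getD_cons_succ]; norm_num)) hN hc hL ha hb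

theorem boxNum_of (h : PITab) (m1 : BoxM1) (m3 : BoxM3) (m4 : BoxM4) (m5 : BoxM5) : BoxNum := by
  intro N c1 lam hN hc hL
  have h0 : 55.26 ≤ Real.log N :=
    le_log_24.trans (Real.log_le_log (by norm_num) (by exact_mod_cast hN))
  by_cases h1 : Real.log N ≤ 56
  · exact num0 h m1 m3 m4 m5 hN hc hL (by simpa only [rg0, Rat.cast_ofNat, Rat.cast_ofScientific] using h0)
      (fun _ => by simpa only [rg0, Rat.cast_ofNat] using h1)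
  by_cases h2 : Real.log N ≤ 58
  · exact num1 h m1 m3 m4 m5 hN hc hL (by simpa only [rg1, Rat.cast_ofNat, Rat.cast_ofScientific] using (not_le.1 h1).le)
      (fun _ => by simpa only [rg1, Rat.cast_ofNat] using h2)
  by_cases h3 : Real.log N ≤ 65
  · exact num2 h m1 m3 m4 m5 hN hc hL (by simpa only [rg2, Rat.cast_ofNat, Rat.cast_ofScientific] using (not_le.1 h2).le)
      (fun _ => by simpa only [rg2, Rat.cast_ofNat] using h3)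
  by_cases h4 : Real.log N ≤ 80
  · exact num3 h m1 m3 m4 m5 hN hc hL (by simpa only [rg3, Rat.cast_ofNat, Rat.cast_ofScientific] using (not_le.1 h3).le)
      (fun _ => by simpa only [rg3, Rat.cast_ofNat] using h4)
  by_cases h5 : Real.log N ≤ 110
  · exact num4 h m1 m3 m4 m5 hN hc hL (by simpa only [rg4, Rat.cast_ofNat, Rat.cast_ofScientific] using (not_le.1 h4).le)
      (fun _ => by simpa only [rg4, Rat.cast_ofNat] using h5)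
  by_cases h6 : Real.log N ≤ 150
  · exact num5 h m1 m3 m4 m5 hN hc hL (by simpa only [rg5, Rat.cast_ofNat, Rat.cast_ofScientific] using (not_le.1 h5).le)
      (fun _ => by simpa only [rg5, Rat.cast_ofNat] using h6)
  by_cases h7 : Real.log N ≤ 190
  · exact num6 h m1 m3 m4 m5 hN hc hL (by simpa only [rg6, Rat.cast_ofNat, Rat.cast_ofScientific] using (not_le.1 h6).le)
      (fun _ => by simpa only [rg6, Rat.cast_ofNat] using h7)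
  by_cases h8 : Real.log N ≤ 1000000
  · exact num7 h m1 m3 m4 m5 hN hc hL (by simpa only [rg7, Rat.cast_ofNat, Rat.cast_ofScientific] using (not_le.1 h7).le)
      (fun _ => by simpa only [rg7, Rat.cast_ofNat] using h8)
  exact num8 h m1 m3 m4 m5 hN hc hL (by simpa only [rg8, Rat.cast_ofNat] using (not_le.1 h8).le)
    (fun e => absurd e (by decide))

end Cfsg.Agent.Depth.N
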