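import Cfsg.Agent.Depth.N.Chk

/-!
# Depth (S5768): the ranges of `log N`
-/

set_option autoImplicit false

namespace Cfsg.Agent.Depth.N

/-- range 0 -/
def rg0 : Rg := ⟨55.26, 56, false, 0.9433, (0.8841, 1.1232),
  [(0.7308, 1.2846), (0.5337, 1.4784), (0.4686, 1.5441), (0.3467, 1.6689), (0.2874, 1.7262)],
  1.65, 20, 1.005, 2.401, 1.1896, 0.00598, 0.4281, 0.1933, 104, 15.09⟩

/-- range 1 -/
def rg1 : Rg := ⟨56, 58, false, 0.9433, (0.8841, 1.1232),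
  [(0.7308, 1.2846), (0.5337, 1.4784), (0.4686, 1.5441), (0.3467, 1.6689), (0.2874, 1.7262)],
  2.2, 30, 1.005, 2.380, 1.1896, 0.00582, 0.4240, 0.1890, 105, 15.63⟩

/-- range 2 -/
def rg2 : Rg := ⟨58, 65, false, 0.9433, (0.8841, 1.1232),
  [(0.7308, 1.2846), (0.5337, 1.4784), (0.4686, 1.5441), (0.3467, 1.6689), (0.2874, 1.7262)],
  6, 20, 1.0045, 2.393, 1.1886, 0.00561, 0.4219, 0.1872, 111, 17.55⟩

/-- range 3 -/
def rg3 : Rg := ⟨65, 80, false, 0.9494, (0.8992, 1.1071),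
  [(0.7743, 1.2377), (0.6111, 1.3979), (0.5574, 1.4520), (0.4565, 1.5554), (0.4073, 1.6031)],
  40, 30, 1.0035, 2.344, 1.1865, 0.00601, 0.3822, 0.1649, 122, 21.65⟩

/-- range 4 -/
def rg4 : Rg := ⟨80, 110, false, 0.9523, (0.9058, 1.0999),
  [(0.7927, 1.2177), (0.6435, 1.3641), (0.5944, 1.4136), (0.5021, 1.5081), (0.4570, 1.5519)],
  15, 50, 1.0025, 2.284, 1.1846, 0.00527, 0.3633, 0.1508, 116, 29.86⟩

/-- range 5 -/
def rg5 : Rg := ⟨110, 150, false, 0.9523, (0.9058, 1.0999),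
  [(0.7927, 1.2177), (0.6435, 1.3641), (0.5944, 1.4136), (0.5021, 1.5081), (0.4570, 1.5519)],
  30, 50, 1.0015, 2.242, 1.1827, 0.00402, 0.3589, 0.1432, 120, 40.8⟩

/-- range 6 -/
def rg6 : Rg := ⟨150, 190, false, 0.9523, (0.9058, 1.0999),
  [(0.7927, 1.2177), (0.6435, 1.3641), (0.5944, 1.4136), (0.5021, 1.5081), (0.4570, 1.5519)],
  30, 50, 1.001, 2.214, 1.1817, 0.00374, 0.3556, 0.1405, 120, 51.75⟩

/-- range 7 -/
def rg7 : Rg := ⟨190, 1000000, false, 0.9523, (0.9058, 1.0999),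
  [(0.7927, 1.2177), (0.6435, 1.3641), (0.5944, 1.4136), (0.5021, 1.5081), (0.4570, 1.5519)],
  40, 50, 1.001, 2.187, 1.1817, 0.00361, 0.3547, 0.1398, 122, 56⟩

/-- range 8 -/
def rg8 : Rg := ⟨1000000, 0, true, 0.9523, (0.9058, 1.0999),
  [(0.7927, 1.2177), (0.6435, 1.3641), (0.5944, 1.4136), (0.5021, 1.5081), (0.4570, 1.5519)],
  40, 50, 1.001, 2.104, 1.1817, 0.00331, 0.3511, 0.1369, 122, 61⟩

/-- the primes in progressions used by the ranges -/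
def PITab : Prop :=
  (PI 60 (Real.exp 32.7) 0.9433 1.07 ∧ PI 120 (Real.exp 32.7) 0.8841 1.1232 ∧ PI 840 (Real.exp 32.7) 0.7308 1.2846 ∧
    PI 1320 (Real.exp 32.7) 0.5337 1.4784 ∧ PI 1560 (Real.exp 32.7) 0.4686 1.5441 ∧
    PI 2040 (Real.exp 32.7) 0.3467 1.6689 ∧ PI 2280 (Real.exp 32.7) 0.2874 1.7262) ∧
  (PI 60 (Real.exp 42.5) 0.9494 1.07 ∧ PI 120 (Real.exp 42.5) 0.8992 1.1071 ∧ PI 840 (Real.exp 42.5) 0.7743 1.2377 ∧
    PI 1320 (Real.exp 42.5) 0.6111 1.3979 ∧ PI 1560 (Real.exp 42.5) 0.5574 1.4520 ∧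
    PI 2040 (Real.exp 42.5) 0.4565 1.5554 ∧ PI 2280 (Real.exp 42.5) 0.4073 1.6031) ∧
  (PI 60 (Real.exp 57.5) 0.9523 1.07 ∧ PI 120 (Real.exp 57.5) 0.9058 1.0999 ∧ PI 840 (Real.exp 57.5) 0.7927 1.2177 ∧
    PI 1320 (Real.exp 57.5) 0.6435 1.3641 ∧ PI 1560 (Real.exp 57.5) 0.5944 1.4136 ∧
    PI 2040 (Real.exp 57.5) 0.5021 1.5081 ∧ PI 2280 (Real.exp 57.5) 0.4570 1.5519)

end Cfsg.Agent.Depth.N
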